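/-
Explicit seven-dimensional data for `G₂(3)`.
-/
import Mathlib

set_option autoImplicit false
set_option maxRecDepth 100000

namespace CfsgLib.G23

abbrev Z3 := ZMod 3
abbrev M7 := Matrix (Fin 7) (Fin 7) Z3

def G0 : M7 := !![1, 0, 0, 0, 0, 0, 0; 0, 1, 0, 0, 0, 1, 0; 0, 0, 1, 0, 0, 0, 2; 0, 0, 0, 1, 0, 0, 0; 0, 0, 0, 0, 1, 0, 0; 0, 0, 0, 0, 0, 1, 0; 0, 0, 0, 0, 0, 0, 1]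
def G1 : M7 := !![1, 0, 0, 0, 0, 0, 0; 0, 1, 0, 0, 1, 0, 0; 0, 0, 1, 0, 0, 0, 0; 0, 0, 0, 1, 0, 0, 2; 0, 0, 0, 0, 1, 0, 0; 0, 0, 0, 0, 0, 1, 0; 0, 0, 0, 0, 0, 0, 1]
def G2 : M7 := !![1, 0, 0, 0, 0, 0, 1; 1, 1, 0, 0, 0, 0, 2; 0, 0, 1, 0, 1, 0, 0; 0, 0, 0, 1, 0, 2, 0; 0, 0, 0, 0, 1, 0, 0; 0, 0, 0, 0, 0, 1, 0; 0, 0, 0, 0, 0, 0, 1]
def G3 : M7 := !![1, 0, 0, 0, 0, 2, 0; 0, 1, 0, 1, 0, 0, 0; 2, 0, 1, 0, 0, 2, 0; 0, 0, 0, 1, 0, 0, 0; 0, 0, 0, 0, 1, 0, 2; 0, 0, 0, 0, 0, 1, 0; 0, 0, 0, 0, 0, 0, 1]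
def G4 : M7 := !![1, 0, 0, 0, 2, 0, 0; 0, 1, 2, 0, 0, 0, 0; 0, 0, 1, 0, 0, 0, 0; 2, 0, 0, 1, 2, 0, 0; 0, 0, 0, 0, 1, 0, 0; 0, 0, 0, 0, 0, 1, 1; 0, 0, 0, 0, 0, 0, 1]
def G5 : M7 := !![1, 0, 0, 0, 0, 0, 0; 0, 1, 0, 0, 0, 0, 0; 0, 0, 1, 2, 0, 0, 0; 0, 0, 0, 1, 0, 0, 0; 0, 0, 0, 0, 1, 1, 0; 0, 0, 0, 0, 0, 1, 0; 0, 0, 0, 0, 0, 0, 1]
def G6 : M7 := !![1, 0, 0, 0, 0, 0, 0; 0, 1, 0, 0, 0, 0, 0; 0, 0, 1, 0, 0, 0, 0; 0, 0, 2, 1, 0, 0, 0; 0, 0, 0, 0, 1, 0, 0; 0, 0, 0, 0, 1, 1, 0; 0, 0, 0, 0, 0, 0, 1]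
def G7 : M7 := !![1, 0, 0, 1, 0, 0, 0; 0, 1, 0, 0, 0, 0, 0; 0, 2, 1, 0, 0, 0, 0; 0, 0, 0, 1, 0, 0, 0; 1, 0, 0, 2, 1, 0, 0; 0, 0, 0, 0, 0, 1, 0; 0, 0, 0, 0, 0, 1, 1]
def G8 : M7 := !![1, 0, 1, 0, 0, 0, 0; 0, 1, 0, 0, 0, 0, 0; 0, 0, 1, 0, 0, 0, 0; 0, 1, 0, 1, 0, 0, 0; 0, 0, 0, 0, 1, 0, 0; 1, 0, 2, 0, 0, 1, 0; 0, 0, 0, 0, 2, 0, 1]
def G9 : M7 := !![1, 2, 0, 0, 0, 0, 0; 0, 1, 0, 0, 0, 0, 0; 0, 0, 1, 0, 0, 0, 0; 0, 0, 0, 1, 0, 0, 0; 0, 0, 1, 0, 1, 0, 0; 0, 0, 0, 2, 0, 1, 0; 2, 2, 0, 0, 0, 0, 1]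
def G10 : M7 := !![1, 0, 0, 0, 0, 0, 0; 0, 1, 0, 0, 0, 0, 0; 0, 0, 1, 0, 0, 0, 0; 0, 0, 0, 1, 0, 0, 0; 0, 1, 0, 0, 1, 0, 0; 0, 0, 0, 0, 0, 1, 0; 0, 0, 0, 2, 0, 0, 1]
def G11 : M7 := !![1, 0, 0, 0, 0, 0, 0; 0, 1, 0, 0, 0, 0, 0; 0, 0, 1, 0, 0, 0, 0; 0, 0, 0, 1, 0, 0, 0; 0, 0, 0, 0, 1, 0, 0; 0, 1, 0, 0, 0, 1, 0; 0, 0, 2, 0, 0, 0, 1]

def Gl : Fin 12 → M7 := ![G0, G1, G2, G3, G4, G5, G6, G7, G8, G9, G10, G11]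

def H13 : M7 := G0 * G4 * G9
def H7 : M7 := G0 * G1 * G3 * G11
def H6 : M7 := G0 * G0 * G11

/-- The span of the first seven powers. -/
def spn (h : M7) (a0 a1 a2 a3 a4 a5 a6 : Z3) : M7 :=
  a0 • h ^ 0 + a1 • h ^ 1 + a2 • h ^ 2 + a3 • h ^ 3 + a4 • h ^ 4 + a5 • h ^ 5 + a6 • h ^ 6

theorem H13_pow : H13 ^ 13 = 1 := by decide +kernel
theorem H13_ne : H13 ≠ 1 := by decide +kernel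
theorem H7_pow : H7 ^ 7 = 1 := by decide +kernel
theorem H7_ne : H7 ≠ 1 := by decide +kernel
theorem H6_pow : H6 ^ 6 = 1 := by decide +kernel
theorem H6_ne2 : H6 ^ 2 ≠ 1 := by decide +kernel
theorem H6_ne3 : H6 ^ 3 ≠ 1 := by decide +kernel

def Bi13 : M7 := !![2, 2, 0, 1, 1, 2, 1; 0, 0, 2, 0, 1, 2, 1; 2, 1, 0, 0, 1, 2, 0; 0, 2, 2, 0, 2, 1, 1; 0, 2, 1, 0, 1, 1, 0; 2, 0, 2, 0, 2, 0, 0; 2, 2, 2, 0, 1, 1, 2]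
theorem Bi13_spec : (Matrix.of fun i (k : Fin 7) => (H13 ^ (k : ℕ)) i 3) * Bi13 = 1 := by decide +kernel

def Bi7 : M7 := !![0, 2, 2, 1, 2, 1, 0; 2, 1, 2, 0, 1, 1, 1; 2, 0, 0, 0, 1, 0, 2; 1, 0, 2, 0, 1, 0, 2; 2, 0, 1, 0, 1, 0, 1; 1, 0, 2, 0, 1, 0, 1; 1, 0, 0, 0, 1, 1, 2]
theorem Bi7_spec : (Matrix.of fun i (k : Fin 7) => (H7 ^ (k : ℕ)) i 3) * Bi7 = 1 := by decide +kernel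

end CfsgLib.G23
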